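import Mathlib
import Cfsg.Prelude.Def_Blocks

/-!
# Definitions for the proof of Pálfy's three primes theorem (S4847)
-/

set_option autoImplicit false

namespace Cfsg.Agent.Lib.Palfy

open Cfsg
open scoped commutatorElement

universe u v

section
variable {K : Type u} {V : Type v} [Group K] [AddCommGroup V] {t : ℕ} [Module (ZMod t) V]

/-- The vectors fixed by all of `H`. -/
def fixSub (ρ : Representation (ZMod t) K V) (H : Subgroup K) : Submodule (ZMod t) V where
  carrier := {v | ∀ y ∈ H, ρ y v = v}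
  add_mem' := by
    intro a b ha hb y hy
    rw [map_add, ha y hy, hb y hy]
  zero_mem' := by
    intro y _
    exact map_zero _
  smul_mem' := by
    intro c a ha y hy
    rw [map_smul, ha y hy]

theorem mem_fixSub {ρ : Representation (ZMod t) K V} {H : Subgroup K} {v : V} :
    v ∈ fixSub ρ H ↔ ∀ y ∈ H, ρ y v = v := Iff.rfl

/-- Irreducibility: the only invariant subspaces are `⊥` and `⊤`. -/
def IrrRep (ρ : Representation (ZMod t) K V) : Prop :=
  ∀ W : Submodule (ZMod t) V, (∀ g : K, ∀ v ∈ W, ρ g v ∈ W) → W = ⊥ ∨ W = ⊤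

/-- Every nonzero vector is fixed by a Sylow `x`-subgroup containing all `x`-elements of its
stabilizer (i.e. the stabilizer has a normal Sylow `x`-subgroup which is Sylow in `K`). -/
def SylFix (ρ : Representation (ZMod t) K V) (x : ℕ) : Prop :=
  ∀ v : V, v ≠ 0 → ∃ X : Sylow x K, (∀ y ∈ (X : Subgroup K), ρ y v = v) ∧
    ∀ y : K, (∃ k : ℕ, orderOf y = x ^ k) → ρ y v = v → y ∈ (X : Subgroup K)

/-- `C` is a normal nonabelian `s`-subgroup of `K`, with `⁅C, C⁆ ≤ ⟨z⟩`, `z` central in `C` of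
order `s` and acting fixed point freely. -/
structure ClassTwo (ρ : Representation (ZMod t) K V) (C : Subgroup K) (s : ℕ) (z : K) : Prop where
  normal : C.Normal
  isP : IsPGroup s C
  z_mem : z ∈ C
  z_central : ∀ u ∈ C, u * z = z * u
  z_order : orderOf z = s
  comm_mem : ∀ u ∈ C, ∀ x ∈ C, ⁅u, x⁆ ∈ Subgroup.zpowers z
  noncomm : ∃ u ∈ C, ∃ x ∈ C, u * x ≠ x * u
  z_fpf : ∀ v, ρ z v = v → v = 0

end

section
variable {G : Type u} [Group G]

/-- The stabilizer in `M` of the linear character `l` of the normal subgroup `N`. -/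
def stabIn (N M : Subgroup G) [hN : N.Normal] (l : N →* ℂˣ) : Subgroup G where
  carrier := {m | m ∈ M ∧ ∀ n : N, l ⟨m * n * m⁻¹, hN.conj_mem (n : G) n.2 m⟩ = l n}
  one_mem' := by
    refine ⟨M.one_mem, fun n => ?_⟩
    congr 1
    ext
    simp
  mul_mem' := by
    rintro a b ⟨ha, ha'⟩ ⟨hb, hb'⟩
    refine ⟨M.mul_mem ha hb, fun n => ?_⟩
    have h1 := ha' ⟨b * n * b⁻¹, hN.conj_mem (n : G) n.2 b⟩
    have h2 := hb' n
    rw [← h2, ← h1]
    congr 1
    ext
    simp [mul_assoc]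
  inv_mem' := by
    rintro a ⟨ha, ha'⟩
    refine ⟨M.inv_mem ha, fun n => ?_⟩
    have h1 := ha' ⟨a⁻¹ * n * a⁻¹⁻¹, hN.conj_mem (n : G) n.2 a⁻¹⟩
    rw [← h1]
    congr 1
    ext
    simp [mul_assoc]

theorem mem_stabIn {N M : Subgroup G} [hN : N.Normal] {l : N →* ℂˣ} {m : G} :
    m ∈ stabIn N M l ↔ m ∈ M ∧ ∀ n : N, l ⟨m * n * m⁻¹, hN.conj_mem (n : G) n.2 m⟩ = l n := Iff.rfl

theorem stabIn_le (N M : Subgroup G) [hN : N.Normal] (l : N →* ℂˣ) : stabIn N M l ≤ M :=
  fun _ h => h.1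

end

/-- No irreducible character degree is divisible by two of the three primes. -/
def NoTwo (G : Type u) [Group G] (p q r : ℕ) : Prop :=
  ∀ χ : IrrCharacter G, ¬ p * q ∣ charDegree (χ : G → ℂ) ∧ ¬ q * r ∣ charDegree (χ : G → ℂ) ∧
    ¬ p * r ∣ charDegree (χ : G → ℂ)

end Cfsg.Agent.Lib.Palfy
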