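import Mathlib
import Cfsg.Agent.Lib.Palfy.Defs
import Cfsg.Agent.Lib.Camina.Orth

/-!
# An automorphism fixing all nonlinear characters and moving `y` out of `R'y` (piece D)
-/

set_option autoImplicit false
set_option linter.style.haveILetI false
set_option linter.unusedSectionVars false
set_option linter.deprecated false

namespace Cfsg.Agent.Lib.Palfy

open Cfsg Cfsg.Agent.Lib.Char Cfsg.Agent.Lib.Char.CompleteCor
open scoped commutatorElement ComplexConjugate Classical

universe u

theorem camina_of_fixing_nonlinear {R : Type u} [Group R] [Finite R] (α : MulAut R)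
    (hα : ∀ θ : IrrCharacter R, charDegree (θ : R → ℂ) ≠ 1 → ∀ x : R,
      (θ : R → ℂ) (α x) = (θ : R → ℂ) x)
    (y : R) (hy : α y * y⁻¹ ∉ commutator R) : ∀ v ∈ commutator R, ∃ u : R, ⁅u, y⁆ = v := by
  cases nonempty_fintype R
  cases nonempty_fintype (IrrCharacter R)
  -- `y` and `α y` are not conjugate
  have hnc : ¬ IsConj y (α y) := by
    intro hc
    obtain ⟨u, hu⟩ := isConj_iff.1 hc
    apply hy
    rw [← hu]
    have : u * y * u⁻¹ * y⁻¹ = ⁅u, y⁆ := rfl
    rw [this]
    exact Subgroup.commutator_mem_commutator (Subgroup.mem_top u) (Subgroup.mem_top y)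
  have hy' : ¬ y * (α y)⁻¹ ∈ commutator R := by
    intro h
    apply hy
    have := (commutator R).inv_mem h
    simpa using this
  have hsplit : ∀ a b : R, ∑ χ : IrrCharacter R, (χ : R → ℂ) a * conj ((χ : R → ℂ) b) =
      (if a * b⁻¹ ∈ commutator R then ((commutator R).index : ℂ) else 0) +
      ∑ χ : IrrCharacter R, (if (χ : R → ℂ) 1 = 1 then 0 else
        (χ : R → ℂ) a * conj ((χ : R → ℂ) b)) := by
    intro a b
    rw [← Camina.Orth.sum_linear a b, ← Finset.sum_add_distrib]
    refine Finset.sum_congr rfl (fun ψ _ => ?_)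
    split_ifs <;> simp
  have h0 := column_orth_not_conj hnc
  rw [hsplit, if_neg hy', zero_add] at h0
  have h1 := column_orth_conj (IsConj.refl y)
  rw [hsplit, if_pos (by simp), ] at h1
  have h2 : ∑ χ : IrrCharacter R, (if (χ : R → ℂ) 1 = 1 then 0 else
        (χ : R → ℂ) y * conj ((χ : R → ℂ) y)) =
      ∑ χ : IrrCharacter R, (if (χ : R → ℂ) 1 = 1 then 0 else
        (χ : R → ℂ) y * conj ((χ : R → ℂ) (α y))) := by
    refine Finset.sum_congr rfl (fun ψ _ => ?_)
    split_ifs with h
    · rfl
    · have hd : charDegree (ψ : R → ℂ) ≠ 1 := (Camina.Orth.charDegree_ne_one_iff ψ.2).2 h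
      rw [hα ψ hd y]
  rw [h2, h0, add_zero] at h1
  have hcen : Nat.card (Subgroup.centralizer ({y} : Set R)) = (commutator R).index := by
    exact_mod_cast h1.symm
  -- counting
  let f : R ⧸ Subgroup.centralizer ({y} : Set R) → commutator R := fun q =>
    Quotient.liftOn' q (fun u => (⟨⁅u, y⁆, Subgroup.commutator_mem_commutator
      (Subgroup.mem_top u) (Subgroup.mem_top y)⟩ : commutator R)) (by
        intro a b hab
        rw [QuotientGroup.leftRel_apply, Subgroup.mem_centralizer_singleton_iff] at hab
        apply Subtype.ext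
        show a * y * a⁻¹ * y⁻¹ = b * y * b⁻¹ * y⁻¹
        have h3 : b * y * b⁻¹ = a * (a⁻¹ * b * y) * b⁻¹ := by group
        rw [h3, hab]
        group)
  have hf : Function.Injective f := by
    intro p q
    refine Quotient.inductionOn₂' p q ?_
    intro a b hab
    have hab' : a * y * a⁻¹ * y⁻¹ = b * y * b⁻¹ * y⁻¹ := congrArg Subtype.val hab
    apply Quotient.sound'
    rw [QuotientGroup.leftRel_apply, Subgroup.mem_centralizer_singleton_iff]
    have h3 : a * y * a⁻¹ = b * y * b⁻¹ := mul_right_cancel hab'
    calc a⁻¹ * b * y = a⁻¹ * (b * y * b⁻¹) * b := by group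
      _ = a⁻¹ * (a * y * a⁻¹) * b := by rw [h3]
      _ = y * (a⁻¹ * b) := by group
  have hcard : Nat.card (commutator R) ≤ Nat.card (R ⧸ Subgroup.centralizer ({y} : Set R)) := by
    have h4 := (commutator R).card_mul_index
    have h5 := (Subgroup.centralizer ({y} : Set R)).card_mul_index
    rw [hcen] at h5
    have h6 : Nat.card (R ⧸ Subgroup.centralizer ({y} : Set R)) =
        (Subgroup.centralizer ({y} : Set R)).index := rfl
    rw [h6]
    have hpos : 0 < (commutator R).index := Nat.pos_of_ne_zero Subgroup.index_ne_zero_of_finite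
    have : Nat.card (commutator R) * (commutator R).index =
        (commutator R).index * (Subgroup.centralizer ({y} : Set R)).index := by
      rw [h4, h5]
    have h7 : (commutator R).index * Nat.card (commutator R) =
        (commutator R).index * (Subgroup.centralizer ({y} : Set R)).index := by
      rw [mul_comm]; exact this
    exact (Nat.eq_of_mul_eq_mul_left hpos h7).le
  have hbij : Function.Bijective f :=
    (Function.Injective.bijective_of_nat_card_le hf hcard)
  intro v hv
  obtain ⟨q, hq⟩ := hbij.2 ⟨v, hv⟩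
  induction q using QuotientGroup.induction_on with
  | H u =>
    exact ⟨u, congrArg Subtype.val hq⟩

end Cfsg.Agent.Lib.Palfy
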