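import Mathlib
import Cfsg.Agent.Lib.Palfy.Defs
import Cfsg.Agent.Lib.Palfy.CompDeg
import Cfsg.Agent.Lib.Char.ItoMichler
import Cfsg.Agent.Lib.Char.FrobPair
import Cfsg.Agent.Lib.Char.CliffordCorr
import Cfsg.Agent.Lib.Char.Gagola
import Cfsg.Agent.Lib.Char.DegreeDvd
import Cfsg.Agent.Lib.Coprime.PSolvable
import Cfsg.Agent.Lib.Solvable.MinimalNormal

/-!
# Pálfy's three primes theorem: the case of a complemented minimal normal subgroup
-/

set_option autoImplicit false

namespace Cfsg.Agent.Lib.Palfy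

open Cfsg Cfsg.Agent.Lib.Char.ItoMichler Cfsg.Agent.Lib.Char.Basic Cfsg.Agent.Lib.Char.Ortho
open scoped commutatorElement

universe u

namespace CaseI

section Twist

variable {G : Type u} [Group G] (V : Subgroup G) [hV : V.Normal]

/-- The conjugate of a linear character of a normal subgroup. -/
noncomputable def twist (m : G) (l : V →* ℂˣ) : V →* ℂˣ :=
  l.comp (MulAut.conjNormal m⁻¹).toMonoidHom

theorem twist_apply (m : G) (l : V →* ℂˣ) (v : V) :
    twist V m l v = l ⟨m⁻¹ * v * m, by simpa using hV.conj_mem (v : G) v.2 m⁻¹⟩ := by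
  refine congrArg l (Subtype.ext ?_)
  simp [MulAut.conjNormal_apply]

theorem twist_mul (a b : G) (l : V →* ℂˣ) : twist V (a * b) l = twist V a (twist V b l) := by
  ext v
  simp only [twist_apply]
  congr 3
  simp [mul_assoc]

theorem twist_one (l : V →* ℂˣ) : twist V 1 l = l := by
  ext v
  simp only [twist_apply]
  congr 3
  simp

theorem twist_mul_right (m : G) (l l' : V →* ℂˣ) : twist V m (l * l') = twist V m l * twist V m l' := by
  ext v
  simp [twist_apply]

/-- The character group of `V`, written additively. -/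
def Chi : Type u := Additive (V →* ℂˣ)

noncomputable instance : AddCommGroup (Chi V) :=
  inferInstanceAs (AddCommGroup (Additive (V →* ℂˣ)))

variable {V} in
/-- The underlying character. -/
def Chi.l (x : Chi V) : V →* ℂˣ := Additive.toMul x

variable {V} in
/-- The point of `Chi` of a character. -/
def Chi.mk (l : V →* ℂˣ) : Chi V := Additive.ofMul l

variable {V} in
@[simp] theorem Chi.mk_l (l : V →* ℂˣ) : (Chi.mk l).l = l := rfl

variable {V} in
@[simp] theorem Chi.l_mk (x : Chi V) : Chi.mk x.l = x := rfl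

variable {V} in
theorem Chi.l_add (x y : Chi V) : (x + y).l = x.l * y.l := rfl

variable {V} in
theorem Chi.l_zero : (0 : Chi V).l = 1 := rfl

variable {V} in
theorem Chi.eq_zero_iff {x : Chi V} : x = 0 ↔ x.l = 1 := Iff.rfl

/-- The action of `G` on `Chi V`. -/
noncomputable def twistAdd (m : G) : Chi V →+ Chi V :=
  AddMonoidHom.mk' (fun x => Chi.mk (twist V m x.l)) (by
    intro a b
    exact twist_mul_right V m a.l b.l)

variable (M : Subgroup G) (t : ℕ) [Module (ZMod t) (Chi V)]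

/-- The dual representation of `M` on the characters of `V`. -/
noncomputable def dualRep : Representation (ZMod t) M (Chi V) where
  toFun m := (twistAdd V (m : G)).toZModLinearMap t
  map_one' := by
    refine LinearMap.ext fun x => ?_
    exact twist_one V x.l
  map_mul' a b := by
    refine LinearMap.ext fun x => ?_
    exact twist_mul V (a : G) (b : G) x.l

theorem dualRep_apply (m : M) (x : Chi V) :
    dualRep V M t m x = Chi.mk (twist V (m : G) x.l) := rfl

theorem dualRep_fix_iff (m : M) (x : Chi V) :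
    dualRep V M t m x = x ↔ (m : G) ∈ stabIn V M x.l := by
  rw [dualRep_apply]
  constructor
  · intro h
    have h' : twist V (m : G) x.l = x.l := congrArg Chi.l h
    have hm : ((m : G)⁻¹) ∈ stabIn V M x.l := by
      refine ⟨M.inv_mem m.2, fun n => ?_⟩
      conv_rhs => rw [← h']
      rw [twist_apply]
      congr 2
      simp
    have := (stabIn V M x.l).inv_mem hm
    simpa using this
  · rintro ⟨-, h⟩
    apply congrArg Chi.mk (a₁ := twist V (m : G) x.l) (a₂ := x.l)
    ext v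
    have h3 := h ⟨(m : G)⁻¹ * v * (m : G), by simpa using hV.conj_mem (v : G) v.2 (m : G)⁻¹⟩
    rw [twist_apply, ← h3]
    congr 3
    simp [mul_assoc]

end Twist

section Ito

variable {G : Type u} [Group G] [Finite G]

/-- Itô's theorem: degrees divide the index of an abelian normal subgroup. -/
theorem charDegree_dvd_index (A : Subgroup G) [A.Normal] (hA : ∀ a ∈ A, ∀ b ∈ A, a * b = b * a)
    (χ : IrrCharacter G) : charDegree (χ : G → ℂ) ∣ A.index := by
  classical
  cases nonempty_fintype G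
  letI : Fintype A := Fintype.ofFinite _
  have hχc := isCharacter_of_isIrrCharacter χ.2
  have h0 := irr_apply_one_ne_zero χ.2
  obtain ⟨ϑ, hϑ, hcon⟩ := Cfsg.Agent.Lib.Char.CliffordCorr.exists_irr_constituent
    (isCharacter_restrict hχc A) (by simpa using h0)
  obtain ⟨e, he, hed⟩ := Cfsg.Agent.Lib.Char.DegreeDvd.exists_degree_ratio A χ.2 hϑ hcon
  have h1 : ϑ 1 = 1 := Cfsg.Agent.Lib.Char.FrobPair.degree_eq_one_of_comm
    (fun a b => Subtype.ext (hA a a.2 b b.2)) hϑ
  rw [h1, mul_one] at he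
  have h2 := Cfsg.Agent.Lib.Char.Values.IsCharacter.charDegree_eq hχc he
  rw [h2]
  exact hed

/-- The Sylow `p`-subgroup of a solvable group with all degrees prime to `p`. -/
theorem exists_normal_sylow {H : Type u} [Group H] [Finite H] [Group.IsSolvable H] {p : ℕ}
    (hp : p.Prime) (hD : DegPrime p H) :
    ∃ T : Subgroup H, T.Normal ∧ IsPGroup p T ∧ ¬ p ∣ T.index ∧ (∀ a b : T, a * b = b * a) ∧
      ∀ y : H, (∃ k : ℕ, orderOf y = p ^ k) → y ∈ T := by
  haveI : Fact p.Prime := ⟨hp⟩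
  obtain ⟨P⟩ : Nonempty (Sylow p H) := inferInstance
  have hn : (P : Subgroup H).Normal := normal_of_degPrime hp _ H rfl
    (Cfsg.Agent.Lib.Coprime.PSolvable.isPSolvable_of_isSolvable hp inferInstance) hD P P.2
    P.not_dvd_index
  refine ⟨P, hn, P.2, P.not_dvd_index, fun a b => mul_comm_of_degPrime hp hD P.2 a b, ?_⟩
  rintro y ⟨k, hk⟩
  have hz : IsPGroup p (Subgroup.zpowers y) := by
    rw [IsPGroup.iff_card]
    exact ⟨k, by rw [Nat.card_zpowers, hk]⟩
  exact le_of_isPGroup_of_normal hp P.2 P.not_dvd_index hz (Subgroup.mem_zpowers y)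

end Ito

section Complement

variable {G : Type u} [Group G] {V M : Subgroup G} [hV : V.Normal] (hc : V.IsComplement' M)

include hc in
theorem exists_decomp (g : G) : ∃ v ∈ V, ∃ m ∈ M, v * m = g := by
  obtain ⟨⟨v, m⟩, h⟩ := hc.2 g
  exact ⟨v, v.2, m, m.2, h⟩

include hc in
theorem eq_one_of_mem_both {m : G} (hm : m ∈ M) (hv : m ∈ V) : m = 1 := by
  have := hc.1 (a₁ := (⟨m, hv⟩, 1)) (a₂ := (1, ⟨m, hm⟩)) (by simp)
  simpa using (congrArg (fun x => ((x.1 : V) : G)) this)

/-- The isomorphism `M ≃* G ⧸ V`. -/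
noncomputable def compEquiv : M ≃* G ⧸ V :=
  MulEquiv.ofBijective ((QuotientGroup.mk' V).comp M.subtype) (by
    constructor
    · rw [injective_iff_map_eq_one]
      intro m hm
      have h1 : (m : G) ∈ V := by
        simpa [QuotientGroup.eq_one_iff] using hm
      exact Subtype.ext (eq_one_of_mem_both hc m.2 h1)
    · intro x
      obtain ⟨g, rfl⟩ := QuotientGroup.mk'_surjective V x
      obtain ⟨v, hv, m, hm, rfl⟩ := exists_decomp hc g
      refine ⟨⟨m, hm⟩, ?_⟩
      simp only [MonoidHom.comp_apply, Subgroup.subtype_apply, map_mul]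
      rw [(QuotientGroup.eq_one_iff v).mpr hv |> fun h => (show QuotientGroup.mk' V v = 1 from h),
        one_mul])

/-- The retraction `G →* M` with kernel `V`. -/
noncomputable def retr : G →* M :=
  (compEquiv hc).symm.toMonoidHom.comp (QuotientGroup.mk' V)

theorem retr_coe (m : M) : retr hc (m : G) = m := by
  change (compEquiv hc).symm ((QuotientGroup.mk' V) (m : G)) = m
  rw [MulEquiv.symm_apply_eq]
  rfl

theorem retr_surjective : Function.Surjective (retr hc) := fun m => ⟨m, retr_coe hc m⟩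

theorem retr_eq_one_iff {g : G} : retr hc g = 1 ↔ g ∈ V := by
  change (compEquiv hc).symm ((QuotientGroup.mk' V) g) = 1 ↔ _
  rw [map_eq_one_iff _ (compEquiv hc).symm.injective]
  exact QuotientGroup.eq_one_iff g

theorem mul_retr_inv_mem (g : G) : g * ((retr hc g : M) : G)⁻¹ ∈ V := by
  rw [← retr_eq_one_iff hc, map_mul, map_inv, retr_coe, mul_inv_cancel]

include hc in
theorem exists_lift_irr (χ : IrrCharacter M) :
    ∃ χ' : IrrCharacter G, charDegree (χ' : G → ℂ) = charDegree (χ : M → ℂ) := by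
  refine ⟨⟨fun g => (χ : M → ℂ) (retr hc g),
    isIrrCharacter_comp_surjective χ.2 (retr hc) (retr_surjective hc)⟩, ?_⟩
  simp [charDegree]

include hc in
theorem degPrime_of_quot {r : ℕ} (h : ∀ χ : IrrCharacter (G ⧸ V), ¬ r ∣ charDegree (χ : G ⧸ V → ℂ)) :
    DegPrime r M := by
  intro χ
  have := h ⟨fun x => (χ : M → ℂ) ((compEquiv hc).symm x),
    isIrrCharacter_comp_surjective χ.2 (compEquiv hc).symm.toMonoidHom (compEquiv hc).symm.surjective⟩
  simpa [charDegree] using this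

include hc in
/-- If `R ≤ M` is normal, abelian and centralizes `V`, the degrees of `G` divide `|M : R|`. -/
theorem not_dvd_of_commuting [Finite G] (hVc : ∀ a ∈ V, ∀ b ∈ V, a * b = b * a) (R : Subgroup M)
    [hRn : R.Normal] (hR : ∀ a b : R, a * b = b * a)
    (hRV : ∀ x : M, x ∈ R → ∀ v ∈ V, (x : G) * v = v * x) {p : ℕ} (hp : ¬ p ∣ R.index)
    (χ : IrrCharacter G) : ¬ p ∣ charDegree (χ : G → ℂ) := by
  let A : Subgroup G := R.comap (retr hc)
  haveI : A.Normal := hRn.comap _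
  have hidx : A.index = R.index := Subgroup.index_comap_of_surjective R (retr_surjective hc)
  have hA : ∀ a ∈ A, ∀ b ∈ A, a * b = b * a := by
    intro a ha b hb
    have hx : retr hc a ∈ R := ha
    have hy : retr hc b ∈ R := hb
    set x := retr hc a
    set y := retr hc b
    have hu := mul_retr_inv_mem hc a
    have hw := mul_retr_inv_mem hc b
    set u := a * (x : G)⁻¹
    set w := b * (y : G)⁻¹
    have ea : a = u * x := by simp [u]
    have eb : b = w * y := by simp [w]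
    have c1 : Commute u w := hVc u hu w hw
    have c2 : Commute (x : G) (y : G) := by
      have := hR ⟨x, hx⟩ ⟨y, hy⟩
      exact congrArg (fun z : R => ((z : M) : G)) this
    have c3 : Commute (x : G) w := hRV x hx w hw
    have c4 : Commute u (y : G) := (hRV y hy u hu).symm
    have : Commute (u * x) (w * y) :=
      Commute.mul_left (Commute.mul_right c1 c4) (Commute.mul_right c3 c2)
    rw [ea, eb]
    exact this
  intro hd
  exact hp (hidx ▸ hd.trans (charDegree_dvd_index A hA χ))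

end Complement

section Ann

variable {G : Type u} [Group G] (V : Subgroup G) [hV : V.Normal]

/-- The common kernel of a set of characters of `V`. -/
def annSub (S : Set (V →* ℂˣ)) : Subgroup G where
  carrier := {v | ∃ h : v ∈ V, ∀ l ∈ S, l ⟨v, h⟩ = 1}
  one_mem' := ⟨V.one_mem, fun l _ => map_one l⟩
  mul_mem' := by
    rintro a b ⟨ha, ha'⟩ ⟨hb, hb'⟩
    refine ⟨V.mul_mem ha hb, fun l hl => ?_⟩
    have := congrArg₂ (· * ·) (ha' l hl) (hb' l hl)
    simpa [← map_mul] using this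
  inv_mem' := by
    rintro a ⟨ha, ha'⟩
    refine ⟨V.inv_mem ha, fun l hl => ?_⟩
    have h1 : l ⟨a, ha⟩⁻¹ = 1 := by rw [map_inv, ha' l hl, inv_one]
    exact h1

theorem annSub_le (S : Set (V →* ℂˣ)) : annSub V S ≤ V := fun _ h => h.1

variable {V} {M : Subgroup G}

theorem annSub_normal (hc : V.IsComplement' M) (hVc : ∀ a ∈ V, ∀ b ∈ V, a * b = b * a)
    {S : Set (V →* ℂˣ)} (hS : ∀ m ∈ M, ∀ l ∈ S, twist V m l ∈ S) : (annSub V S).Normal := by
  constructor
  rintro a ⟨ha, ha'⟩ g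
  obtain ⟨v, hv, m, hm, rfl⟩ := exists_decomp hc g
  have h1 : m * a * m⁻¹ ∈ V := hV.conj_mem a ha m
  have h2 : v * m * a * (v * m)⁻¹ = m * a * m⁻¹ := by
    have := hVc v hv _ h1
    calc v * m * a * (v * m)⁻¹ = (v * (m * a * m⁻¹)) * v⁻¹ := by group
      _ = (m * a * m⁻¹ * v) * v⁻¹ := by rw [this]
      _ = m * a * m⁻¹ := by group
  rw [h2]
  refine ⟨h1, fun l hl => ?_⟩
  have h3 := ha' _ (hS m⁻¹ (M.inv_mem hm) l hl)
  rw [twist_apply] at h3
  rw [← h3]
  congr 2
  simp

end Ann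

section Main

variable {G : Type u} [Group G] [Finite G] {V M : Subgroup G} [hV : V.Normal]

/-- A commutative group structure on `V`. -/
@[reducible] def commV (hVc : ∀ a ∈ V, ∀ b ∈ V, a * b = b * a) : CommGroup V :=
  { (inferInstance : Group V) with
    mul_comm := fun a b => Subtype.ext (hVc a a.2 b b.2) }

/-- Characters separate the points of `V`. -/
theorem exists_char_ne_one (hVc : ∀ a ∈ V, ∀ b ∈ V, a * b = b * a) {v : V} (hv : v ≠ 1) :
    ∃ l : V →* ℂˣ, l v ≠ 1 := by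
  letI := commV hVc
  exact CommGroup.exists_apply_ne_one_of_hasEnoughRootsOfUnity V ℂ hv

theorem card_chi (hVc : ∀ a ∈ V, ∀ b ∈ V, a * b = b * a) : Nat.card (Chi V) = Nat.card V := by
  letI := commV hVc
  exact CommGroup.card_monoidHom_of_hasEnoughRootsOfUnity V ℂ

theorem finite_chi (hVc : ∀ a ∈ V, ∀ b ∈ V, a * b = b * a) : Finite (Chi V) := by
  have h := card_chi hVc
  exact Nat.finite_of_card_ne_zero (by rw [h]; exact Nat.card_pos.ne')

variable (t : ℕ) [Module (ZMod t) (Chi V)]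

theorem dualRep_irr (hc : V.IsComplement' M) (hVc : ∀ a ∈ V, ∀ b ∈ V, a * b = b * a)
    (hmin : ∀ W : Subgroup G, W.Normal → W ≤ V → W = ⊥ ∨ W = V) :
    IrrRep (dualRep V M t) := by
  intro W hW
  let S : Set (V →* ℂˣ) := {l | Chi.mk l ∈ W}
  have hS : ∀ m ∈ M, ∀ l ∈ S, twist V m l ∈ S := by
    intro m hm l hl
    exact hW ⟨m, hm⟩ _ hl
  have hn := annSub_normal hc hVc hS
  rcases hmin _ hn (annSub_le V S) with h | h
  · right
    haveI := finite_chi hVc
    -- counting
    let e : V → (Multiplicative W →* ℂˣ) := fun v =>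
      MonoidHom.mk' (fun x => (Multiplicative.toAdd x : W).1.l v) (by
        intro a b
        rfl)
    have he : Function.Injective e := by
      intro a b hab
      have h1 : ((a : G) * (b : G)⁻¹) ∈ annSub V S := by
        refine ⟨V.mul_mem a.2 (V.inv_mem b.2), fun l hl => ?_⟩
        have h2 := DFunLike.congr_fun hab (Multiplicative.ofAdd ⟨Chi.mk l, hl⟩)
        have h3 : l a = l b := h2
        have h4 : (⟨(a : G) * (b : G)⁻¹, V.mul_mem a.2 (V.inv_mem b.2)⟩ : V) = a * b⁻¹ := rfl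
        rw [h4, map_mul, map_inv, h3, mul_inv_cancel]
      rw [h, Subgroup.mem_bot] at h1
      exact Subtype.ext (mul_inv_eq_one.mp h1)
    have hcard1 : Nat.card V ≤ Nat.card (Multiplicative W →* ℂˣ) :=
      Nat.card_le_card_of_injective e he
    have hcard2 : Nat.card (Multiplicative W →* ℂˣ) = Nat.card W := by
      rw [CommGroup.card_monoidHom_of_hasEnoughRootsOfUnity (Multiplicative W) ℂ]
      rfl
    have hbij := Function.Injective.bijective_of_nat_card_le (f := fun x : W => (x : Chi V))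
      Subtype.val_injective (by rw [card_chi hVc, ← hcard2]; exact hcard1)
    rw [Submodule.eq_top_iff']
    intro x
    obtain ⟨y, rfl⟩ := hbij.2 x
    exact y.2
  · left
    rw [Submodule.eq_bot_iff]
    intro x hx
    rw [Chi.eq_zero_iff]
    ext v
    have hv : (v : G) ∈ annSub V S := by rw [h]; exact v.2
    obtain ⟨h1, h2⟩ := hv
    have := h2 x.l hx
    simpa using congrArg (fun u : ℂˣ => (u : ℂ)) this

/-- A normal Sylow subgroup lies in every subgroup of index prime to `r`. -/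
theorem normal_sylow_le {H : Type u} [Group H] [Finite H] {r : ℕ} [hr : Fact r.Prime]
    {T J : Subgroup H} [T.Normal] (hT : IsPGroup r T) (hTi : ¬ r ∣ T.index) (hJ : ¬ r ∣ J.index) :
    T ≤ J := by
  obtain ⟨S⟩ : Nonempty (Sylow r J) := inferInstance
  have hB : IsPGroup r ((S : Subgroup J).map J.subtype) := S.2.map _
  have hBi : ¬ r ∣ ((S : Subgroup J).map J.subtype).index := by
    rw [Subgroup.index_map_subtype]
    intro h
    rcases (Nat.Prime.dvd_mul hr.out).mp h with h | h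
    · exact S.not_dvd_index h
    · exact hJ h
  have h1 : (S : Subgroup J).map J.subtype ≤ T :=
    le_of_isPGroup_of_normal hr.out hT hTi hB
  have h2 : T ≤ (S : Subgroup J).map J.subtype :=
    le_of_isPGroup_of_le hr.out h1 hT hBi
  exact h2.trans (Subgroup.map_subtype_le _)

variable [Group.IsSolvable G] {p q r : ℕ}

theorem r_dvd_relIndex [hrp : Fact r.Prime] (hc : V.IsComplement' M)
    (hVc : ∀ a ∈ V, ∀ b ∈ V, a * b = b * a)
    (hmin : ∀ W : Subgroup G, W.Normal → W ≤ V → W = ⊥ ∨ W = V)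
    (hrlost : ∀ χ : IrrCharacter (G ⧸ V), ¬ r ∣ charDegree (χ : G ⧸ V → ℂ))
    (hr : ∃ χ : IrrCharacter G, r ∣ charDegree (χ : G → ℂ)) {l : V →* ℂˣ} (hl : l ≠ 1) :
    r ∣ (stabIn V M l).relIndex M := by
  by_contra hnd
  obtain ⟨T, hTn, hTp, hTi, hTc, -⟩ :=
    exists_normal_sylow (H := M) hrp.out (degPrime_of_quot hc hrlost)
  haveI := hTn
  have hTJ : T ≤ (stabIn V M l).subgroupOf M := normal_sylow_le hTp hTi hnd
  let S : Set (V →* ℂˣ) := {l' | ∃ m ∈ M, l' = twist V m l}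
  have hS : ∀ m ∈ M, ∀ l' ∈ S, twist V m l' ∈ S := by
    rintro m hm _ ⟨m', hm', rfl⟩
    exact ⟨m * m', M.mul_mem hm hm', (twist_mul V m m' l).symm⟩
  have hn := annSub_normal hc hVc hS
  have hbot : annSub V S = ⊥ := by
    rcases hmin _ hn (annSub_le V S) with h | h
    · exact h
    · exfalso
      apply hl
      ext v
      have hv : (v : G) ∈ annSub V S := by rw [h]; exact v.2
      obtain ⟨h1, h2⟩ := hv
      have h3 := h2 l ⟨1, M.one_mem, (twist_one V l).symm⟩
      simpa using congrArg (fun u : ℂˣ => (u : ℂ)) h3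
  have hRV : ∀ x : M, x ∈ T → ∀ v ∈ V, (x : G) * v = v * x := by
    intro x hx v hv
    have hcm : (x : G) * v * (x : G)⁻¹ * v⁻¹ ∈ annSub V S := by
      have hc1 : (x : G) * v * (x : G)⁻¹ ∈ V := hV.conj_mem v hv x
      refine ⟨V.mul_mem hc1 (V.inv_mem hv), ?_⟩
      rintro _ ⟨m, hm, rfl⟩
      rw [twist_apply]
      set m' : M := ⟨m, hm⟩
      have hx' : (m'⁻¹ * x * m'⁻¹⁻¹ : M) ∈ T := hTn.conj_mem x hx m'⁻¹
      have hJ := (hTJ hx').2
      have hv' : m⁻¹ * v * m ∈ V := by simpa using hV.conj_mem v hv m⁻¹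
      have h4 := hJ ⟨m⁻¹ * v * m, hv'⟩
      have h5 : (⟨m⁻¹ * ((x : G) * v * (x : G)⁻¹ * v⁻¹) * m, by
          simpa using hV.conj_mem _ (V.mul_mem hc1 (V.inv_mem hv)) m⁻¹⟩ : V) =
          ⟨((m'⁻¹ * x * m'⁻¹⁻¹ : M) : G) * (⟨m⁻¹ * v * m, hv'⟩ : V) * ((m'⁻¹ * x * m'⁻¹⁻¹ : M) : G)⁻¹,
            hV.conj_mem _ hv' _⟩ * (⟨m⁻¹ * v * m, hv'⟩ : V)⁻¹ := by
        apply Subtype.ext
        simp [m', mul_assoc]
      rw [h5, map_mul, map_inv]
      exact mul_inv_eq_one.mpr h4
    rw [hbot, Subgroup.mem_bot] at hcm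
    have h6 : (x : G) * v * (x : G)⁻¹ = v := mul_inv_eq_one.mp hcm
    exact (mul_inv_eq_iff_eq_mul.mp h6)
  obtain ⟨χ, hχ⟩ := hr
  exact not_dvd_of_commuting hc hVc T hTc hRV hTi χ hχ

/-- An irreducible character of any group. -/
theorem exists_irr (H : Type u) [Group H] [Finite H] : Nonempty (IrrCharacter H) :=
  ⟨Cfsg.Agent.Lib.Char.Gagola.oneIrr H⟩

theorem stab_props {x : ℕ} [hxp : Fact x.Prime] [hrp : Fact r.Prime] (hxr : x ≠ r)
    (hNo : ∀ χ : IrrCharacter G, ¬ x * r ∣ charDegree (χ : G → ℂ)) (l : V →* ℂˣ)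
    (hB : ∀ β : IrrCharacter (stabIn V M l), ∃ χ : IrrCharacter G, charDegree (χ : G → ℂ) =
      (stabIn V M l).relIndex M * charDegree (β : stabIn V M l → ℂ))
    (hrd : r ∣ (stabIn V M l).relIndex M) :
    ¬ x ∣ (stabIn V M l).relIndex M ∧ DegPrime x (stabIn V M l) := by
  have key : ∀ β : IrrCharacter (stabIn V M l),
      ¬ x ∣ (stabIn V M l).relIndex M * charDegree (β : stabIn V M l → ℂ) := by
    intro β h
    obtain ⟨χ, hχ⟩ := hB β
    apply hNo χ
    rw [hχ]
    have hcop : Nat.Coprime x r := (Nat.coprime_primes hxp.out hrp.out).mpr hxr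
    exact hcop.mul_dvd_of_dvd_of_dvd h (hrd.trans (Nat.dvd_mul_right _ _))
  obtain ⟨β₀⟩ := exists_irr (stabIn V M l)
  refine ⟨fun h => key β₀ (h.trans (Nat.dvd_mul_right _ _)), fun β h => ?_⟩
  exact key β (h.trans (Nat.dvd_mul_left _ _))

/-- The Sylow subgroup of `M` attached to a stabilizer. -/
theorem exists_sylow_data {x : ℕ} [hxp : Fact x.Prime] {J : Subgroup G} (hJM : J ≤ M)
    (hi : ¬ x ∣ J.relIndex M) (hD : DegPrime x J) :
    ∃ X : Subgroup M, IsPGroup x X ∧ ¬ x ∣ X.index ∧ (∀ a ∈ X, (a : G) ∈ J) ∧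
      (∀ a ∈ X, ∀ b ∈ X, a * b = b * a) ∧
      ∀ y : M, (y : G) ∈ J → (∃ k : ℕ, orderOf y = x ^ k) → y ∈ X := by
  obtain ⟨T, hTn, hTp, hTi, hTc, hTall⟩ := exists_normal_sylow (H := J) hxp.out hD
  refine ⟨(T.map J.subtype).subgroupOf M, (hTp.map _).comap_of_injective M.subtype
    M.subtype_injective, ?_, ?_, ?_, ?_⟩
  · have h1 : ((T.map J.subtype).subgroupOf M).index = (T.map J.subtype).relIndex M := rfl
    have h0 : (T.map J.subtype).relIndex J = T.index := by
      change ((T.map J.subtype).comap J.subtype).index = _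
      rw [Subgroup.comap_map_eq_self_of_injective J.subtype_injective]
    rw [h1, ← Subgroup.relIndex_mul_relIndex (T.map J.subtype) J M (Subgroup.map_subtype_le T) hJM,
      h0]
    intro h
    rcases (Nat.Prime.dvd_mul hxp.out).mp h with h | h
    · exact hTi h
    · exact hi h
  · intro a ha
    exact Subgroup.map_subtype_le T ha
  · intro a ha b hb
    obtain ⟨u, hu, hua⟩ := ha
    obtain ⟨w, hw, hwb⟩ := hb
    apply Subtype.ext
    have := hTc ⟨u, hu⟩ ⟨w, hw⟩
    have h2 := congrArg (fun z : T => ((z : J) : G)) this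
    simp only [Subgroup.subtype_apply] at hua hwb
    simpa [hua, hwb] using h2
  · intro y hy hk
    refine ⟨⟨(y : G), hy⟩, hTall _ ?_, rfl⟩
    obtain ⟨k, hk⟩ := hk
    refine ⟨k, ?_⟩
    rw [← hk, ← Subgroup.orderOf_coe, ← Subgroup.orderOf_coe]

variable (t : ℕ) [Module (ZMod t) (Chi V)]

theorem sylFix_dualRep {x : ℕ} [hxp : Fact x.Prime]
    (hx : ∀ l : V →* ℂˣ, l ≠ 1 → ¬ x ∣ (stabIn V M l).relIndex M ∧ DegPrime x (stabIn V M l)) :
    SylFix (dualRep V M t) x := by
  intro v hv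
  have hl : v.l ≠ 1 := fun h => hv (Chi.eq_zero_iff.mpr h)
  obtain ⟨hi, hD⟩ := hx v.l hl
  obtain ⟨X, hXp, hXi, hXJ, -, hXall⟩ := exists_sylow_data (stabIn_le V M v.l) hi hD
  refine ⟨hXp.toSylow hXi, ?_, ?_⟩
  · intro y hy
    rw [dualRep_fix_iff]
    exact hXJ y hy
  · intro y hk hy
    rw [dualRep_fix_iff] at hy
    exact hXall y hy hk

theorem exists_moved {x : ℕ} [hxp : Fact x.Prime] (hc : V.IsComplement' M)
    (hVc : ∀ a ∈ V, ∀ b ∈ V, a * b = b * a) (hV1 : V ≠ ⊥)
    (hx : ∀ l : V →* ℂˣ, l ≠ 1 → ¬ x ∣ (stabIn V M l).relIndex M ∧ DegPrime x (stabIn V M l))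
    (hxdeg : ∃ χ : IrrCharacter G, x ∣ charDegree (χ : G → ℂ)) :
    ∃ y : M, (∃ k : ℕ, orderOf y = x ^ k) ∧ dualRep V M t y ≠ 1 := by
  by_contra hcon
  push Not at hcon
  -- all `x`-elements of `M` centralize `V`
  have hcen : ∀ y : M, (∃ k : ℕ, orderOf y = x ^ k) → ∀ v ∈ V, (y : G) * v = v * y := by
    intro y hy v hv
    by_contra hne
    have hc1 : (y : G)⁻¹ * v * (y : G) * v⁻¹ ≠ 1 := by
      intro h
      apply hne
      have h6 : (y : G)⁻¹ * v * (y : G) = v := mul_inv_eq_one.mp h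
      rw [mul_assoc, inv_mul_eq_iff_eq_mul] at h6
      exact h6.symm
    have hmem : (y : G)⁻¹ * v * (y : G) ∈ V := by simpa using hV.conj_mem v hv (y : G)⁻¹
    obtain ⟨l, hl⟩ := exists_char_ne_one hVc
      (v := ⟨(y : G)⁻¹ * v * (y : G), hmem⟩ * (⟨v, hv⟩ : V)⁻¹) (fun h => hc1 (congrArg Subtype.val h))
    apply hl
    have h1 := hcon y hy
    have h2 : dualRep V M t y (Chi.mk l) = Chi.mk l := by rw [h1]; rfl
    rw [dualRep_apply] at h2
    have h3 : twist V (y : G) l = l := congrArg Chi.l h2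
    have h4 := DFunLike.congr_fun h3 ⟨v, hv⟩
    rw [twist_apply] at h4
    rw [map_mul, map_inv, h4, mul_inv_cancel]
  obtain ⟨⟨m₀, hm₀⟩, hne⟩ := Subgroup.ne_bot_iff_exists_ne_one.mp hV1
  obtain ⟨l, hl⟩ := exists_char_ne_one hVc hne
  have hl1 : l ≠ 1 := by
    rintro rfl
    exact hl (by simp)
  obtain ⟨hi, hD⟩ := hx l hl1
  obtain ⟨X, hXp, hXi, hXJ, hXc, hXall⟩ := exists_sylow_data (stabIn_le V M l) hi hD
  have hall : ∀ y : M, (∃ k : ℕ, orderOf y = x ^ k) → y ∈ X := by
    intro y hy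
    refine hXall y ?_ hy
    have h1 := hcon y hy
    have h2 : dualRep V M t y (Chi.mk l) = Chi.mk l := by rw [h1]; rfl
    exact (dualRep_fix_iff V M t y (Chi.mk l)).mp h2
  have hord : ∀ a ∈ X, ∃ k : ℕ, orderOf a = x ^ k := by
    intro a ha
    obtain ⟨k, hk⟩ := (IsPGroup.iff_orderOf.mp hXp) ⟨a, ha⟩
    exact ⟨k, by rw [← hk]; exact Subgroup.orderOf_coe (⟨a, ha⟩ : X)⟩
  haveI hXn : X.Normal := by
    constructor
    intro a ha m
    apply hall
    obtain ⟨k, hk⟩ := hord a ha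
    refine ⟨k, ?_⟩
    rw [← hk]
    exact orderOf_injective (MulAut.conj m).toMonoidHom (MulAut.conj m).injective a
  obtain ⟨χ, hχ⟩ := hxdeg
  refine not_dvd_of_commuting hc hVc X (fun a b => Subtype.ext (hXc a a.2 b b.2)) ?_ hXi χ hχ
  intro y hy v hv
  exact hcen y (hord y hy) v hv

/-- The case of a complemented minimal normal subgroup, given the two inputs `hB`, `hK`. -/
theorem false_case_complement_aux [hp : Fact p.Prime] [hq : Fact q.Prime] [hr' : Fact r.Prime]
    (hpq : p ≠ q) (hqr : q ≠ r) (hpr : p ≠ r)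
    (hmin : ∀ W : Subgroup G, W.Normal → W ≤ V → W = ⊥ ∨ W = V) (hV1 : V ≠ ⊥)
    (hc : V.IsComplement' M)
    (hrlost : ∀ χ : IrrCharacter (G ⧸ V), ¬ r ∣ charDegree (χ : G ⧸ V → ℂ))
    (hr : ∃ χ : IrrCharacter G, r ∣ charDegree (χ : G → ℂ))
    (hpd : ∃ χ : IrrCharacter G, p ∣ charDegree (χ : G → ℂ))
    (hqd : ∃ χ : IrrCharacter G, q ∣ charDegree (χ : G → ℂ)) (H : NoTwo G p q r)
    (hB : ∀ (l : V →* ℂˣ) (β : IrrCharacter (stabIn V M l)), ∃ χ : IrrCharacter G,
      charDegree (χ : G → ℂ) = (stabIn V M l).relIndex M * charDegree (β : stabIn V M l → ℂ))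
    (hK : ∀ (t : ℕ) [Fact t.Prime] [Module (ZMod t) (Chi V)] [Finite (Chi V)]
      (ρ : Representation (ZMod t) M (Chi V)), IrrRep ρ → SylFix ρ p → SylFix ρ q →
      (∃ y : M, (∃ k : ℕ, orderOf y = p ^ k) ∧ ρ y ≠ 1) →
      (∃ y : M, (∃ k : ℕ, orderOf y = q ^ k) ∧ ρ y ≠ 1) →
      ∃ χ : IrrCharacter M, p * q ∣ charDegree (χ : M → ℂ)) : False := by
  have hm : Cfsg.Agent.Lib.Solvable.MinimalNormal.IsMinNormal V := ⟨hV, hV1, hmin⟩
  obtain ⟨hcomm, t, ht, hexp⟩ := hm.elementary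
  haveI : Fact t.Prime := ⟨ht⟩
  have hVc : ∀ a ∈ V, ∀ b ∈ V, a * b = b * a := by
    intro a ha b hb
    have := hcomm.is_comm.comm ⟨a, ha⟩ ⟨b, hb⟩
    exact congrArg Subtype.val this
  have hts : ∀ x : Chi V, t • x = 0 := by
    intro x
    rw [Chi.eq_zero_iff]
    have h1 : (t • x).l = x.l ^ t := rfl
    rw [h1]
    ext v
    have h2 : (x.l ^ t) v = x.l (v ^ t) := by simp
    rw [h2]
    have h3 : v ^ t = 1 := Subtype.ext (by simpa using hexp v v.2)
    rw [h3]
    simp
  letI : Module (ZMod t) (Chi V) := AddCommGroup.zmodModule hts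
  haveI := finite_chi hVc
  have hrd : ∀ l : V →* ℂˣ, l ≠ 1 → r ∣ (stabIn V M l).relIndex M :=
    fun l hl => r_dvd_relIndex hc hVc hmin hrlost hr hl
  have hPp : ∀ l : V →* ℂˣ, l ≠ 1 →
      ¬ p ∣ (stabIn V M l).relIndex M ∧ DegPrime p (stabIn V M l) :=
    fun l hl => stab_props hpr (fun χ => (H χ).2.2) l (hB l) (hrd l hl)
  have hQq : ∀ l : V →* ℂˣ, l ≠ 1 →
      ¬ q ∣ (stabIn V M l).relIndex M ∧ DegPrime q (stabIn V M l) :=
    fun l hl => stab_props hqr (fun χ => (H χ).2.1) l (hB l) (hrd l hl)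
  obtain ⟨χ, hχ⟩ := hK t (dualRep V M t) (dualRep_irr t hc hVc hmin) (sylFix_dualRep t hPp)
    (sylFix_dualRep t hQq) (exists_moved t hc hVc hV1 hPp hpd) (exists_moved t hc hVc hV1 hQq hqd)
  obtain ⟨χ', hχ'⟩ := exists_lift_irr hc χ
  exact (H χ').1 (hχ' ▸ hχ)

end Main

end CaseI

open CaseI in
/-- The case of a complemented minimal normal subgroup, given the key theorem for the action of
`M` on the characters of `V`. -/
theorem false_case_complement_of_key {G : Type u} [Group G] [Finite G] [Group.IsSolvable G]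
    {p q r : ℕ} [Fact p.Prime] [Fact q.Prime] [Fact r.Prime] (hpq : p ≠ q) (hqr : q ≠ r) (hpr : p ≠ r)
    (V M : Subgroup G) [V.Normal] (hmin : ∀ W : Subgroup G, W.Normal → W ≤ V → W = ⊥ ∨ W = V)
    (hV : V ≠ ⊥) (hc : V.IsComplement' M)
    (hrlost : ∀ χ : IrrCharacter (G ⧸ V), ¬ r ∣ charDegree (χ : G ⧸ V → ℂ))
    (hr : ∃ χ : IrrCharacter G, r ∣ charDegree (χ : G → ℂ))
    (hp : ∃ χ : IrrCharacter G, p ∣ charDegree (χ : G → ℂ))
    (hq : ∃ χ : IrrCharacter G, q ∣ charDegree (χ : G → ℂ)) (H : NoTwo G p q r)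
    (hK : ∀ (t : ℕ) [Fact t.Prime] [Module (ZMod t) (Chi V)] [Finite (Chi V)]
      (ρ : Representation (ZMod t) M (Chi V)), IrrRep ρ → SylFix ρ p → SylFix ρ q →
      (∃ y : M, (∃ k : ℕ, orderOf y = p ^ k) ∧ ρ y ≠ 1) →
      (∃ y : M, (∃ k : ℕ, orderOf y = q ^ k) ∧ ρ y ≠ 1) →
      ∃ χ : IrrCharacter M, p * q ∣ charDegree (χ : M → ℂ)) : False :=
  false_case_complement_aux hpq hqr hpr hmin hV hc hrlost hr hp hq H
    (fun l β => exists_irr_degree_of_complement V M hc l β) hK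

end Cfsg.Agent.Lib.Palfy
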