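import Mathlib
import Cfsg.Agent.Lib.Palfy.CaseI
import Cfsg.Agent.Lib.Palfy.Key

/-!
# Pálfy's three primes theorem: the case of a complemented minimal normal subgroup, assembled
-/

set_option autoImplicit false

namespace Cfsg.Agent.Lib.Palfy

open Cfsg

universe u

theorem false_case_complement {G : Type u} [Group G] [Finite G] [Group.IsSolvable G] {p q r : ℕ}
    [Fact p.Prime] [Fact q.Prime] [Fact r.Prime] (hpq : p ≠ q) (hqr : q ≠ r) (hpr : p ≠ r)
    (V M : Subgroup G) [V.Normal] (hmin : ∀ W : Subgroup G, W.Normal → W ≤ V → W = ⊥ ∨ W = V) (hV : V ≠ ⊥)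
    (hc : V.IsComplement' M) (hrlost : ∀ χ : IrrCharacter (G ⧸ V), ¬ r ∣ charDegree (χ : G ⧸ V → ℂ))
    (hr : ∃ χ : IrrCharacter G, r ∣ charDegree (χ : G → ℂ))
    (hp : ∃ χ : IrrCharacter G, p ∣ charDegree (χ : G → ℂ))
    (hq : ∃ χ : IrrCharacter G, q ∣ charDegree (χ : G → ℂ))
    (H : NoTwo G p q r) : False :=
  false_case_complement_of_key hpq hqr hpr V M hmin hV hc hrlost hr hp hq H
    (fun _ _ _ _ ρ h1 h2 h3 h4 h5 => key ρ h1 hpq h2 h3 h4 h5)

end Cfsg.Agent.Lib.Palfy
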