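import Mathlib
import Cfsg.Agent.Lib.Palfy.Defs
import Cfsg.Agent.Lib.Char.ItoMichler
import Cfsg.Agent.Lib.Char.DegreeDvd
import Cfsg.Agent.Lib.Char.Values
import Cfsg.Agent.Lib.PGroup.QuadReduce
import Cfsg.Agent.Lib.Solvable.PSeries
import Cfsg.Agent.Lib.Solvable.MinimalNormal

/-!
# The Frattini case of Pálfy's theorem: the structure of a normal Sylow subgroup (piece M0)
-/

set_option autoImplicit false
set_option linter.style.haveILetI false
set_option linter.unusedSectionVars false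
set_option linter.deprecated false

namespace Cfsg.Agent.Lib.Palfy

open Cfsg Cfsg.Agent.Lib.Char Cfsg.Agent.Lib.Solvable.PSeries
open scoped commutatorElement Pointwise

universe u

/-- Ito: the degree of an irreducible character divides the index of an abelian normal subgroup. -/
theorem exists_degree_dvd_index_of_abelian {G : Type u} [Group G] [Fintype G] (A : Subgroup G)
    [A.Normal] [hA : IsMulCommutative A] {χ : G → ℂ} (hχ : IsIrrCharacter G χ) :
    ∃ e : ℕ, χ 1 = e ∧ e ∣ A.index := by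
  classical
  letI : Fintype A := Fintype.ofFinite _
  obtain ⟨θ, hθ, hne⟩ := CliffordCorr.exists_irr_constituent
    (Basic.isCharacter_restrict (Basic.isCharacter_of_isIrrCharacter hχ) A)
    (by simpa using Ortho.irr_apply_one_ne_zero hχ)
  obtain ⟨e, he, hd⟩ := DegreeDvd.exists_degree_ratio A hχ hθ hne
  refine ⟨e, ?_, hd⟩
  rw [he]
  obtain ⟨n, ρ, hρ, rfl⟩ := hθ
  have h1 : Module.finrank ℂ (Fin n → ℂ) = 1 :=
    Representation.IsIrreducible.finrank_eq_one_of_isMulCommutative ρ
  have h2 : ρ.character 1 = 1 := by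
    show LinearMap.trace ℂ _ (ρ 1) = 1
    rw [map_one, Module.End.one_eq_id, LinearMap.trace_id, h1]
    simp
  rw [h2, mul_one]

theorem frattini_structure {G : Type u} [Group G] [Finite G] [Group.IsSolvable G] {r : ℕ}
    [Fact r.Prime] (V : Subgroup G) [hVn : V.Normal]
    (hmin : ∀ W : Subgroup G, W.Normal → W ≤ V → W = ⊥ ∨ W = V) (hV : V ≠ ⊥)
    (hc : ¬ ∃ M : Subgroup G, V.IsComplement' M)
    (hrlost : ∀ χ : IrrCharacter (G ⧸ V), ¬ r ∣ charDegree (χ : G ⧸ V → ℂ))
    (hr : ∃ χ : IrrCharacter G, r ∣ charDegree (χ : G → ℂ)) :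
    ∃ R S : Subgroup G, R.Normal ∧ IsPGroup r R ∧ R.IsComplement' S ∧
      Nat.Coprime (Nat.card R) (Nat.card S) ∧ V ≤ R ∧ (∀ v ∈ V, ∀ x ∈ R, v * x = x * v) ∧
      ⁅R, R⁆ = V ∧ (∀ v ∈ V, v ^ r = 1) := by
  classical
  cases nonempty_fintype G
  have hp : r.Prime := Fact.out
  -- `V` is abelian
  have hVab : ∀ a ∈ V, ∀ b ∈ V, a * b = b * a := by
    have h1 : ⁅V, V⁆ = ⊥ := by
      rcases hmin ⁅V, V⁆ inferInstance (Subgroup.commutator_le_left V V) with h | h
      · exact h
      · exact absurd h (Group.IsSolvable.commutator_lt_of_ne_bot hV).ne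
    intro a ha b hb
    have h2 := Subgroup.commutator_mem_commutator ha hb
    rw [h1, Subgroup.mem_bot] at h2
    exact commutatorElement_eq_one_iff_mul_comm.1 h2
  obtain ⟨R⟩ : Nonempty (Sylow r G) := inferInstance
  -- the image of `R`
  let Rbar : Subgroup (G ⧸ V) := (R : Subgroup G).map (QuotientGroup.mk' V)
  have hD : ItoMichler.DegPrime r (G ⧸ V) := hrlost
  have hRbarP : IsPGroup r Rbar := R.isPGroup'.map _
  have hRbarI : ¬ r ∣ Rbar.index := fun h =>
    R.not_dvd_index (h.trans (Subgroup.index_map_dvd _ (QuotientGroup.mk'_surjective V)))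
  have hRbarN : Rbar.Normal :=
    ItoMichler.normal_of_degPrime hp _ (G ⧸ V) rfl isPSolvable_of_solvable hD Rbar hRbarP hRbarI
  have hRbarC : ∀ a b : Rbar, a * b = b * a := fun a b =>
    ItoMichler.mul_comm_of_degPrime hp hD hRbarP a b
  -- the preimage of the image
  let L : Subgroup G := Rbar.comap (QuotientGroup.mk' V)
  have hLn : L.Normal := Subgroup.Normal.comap hRbarN _
  have hL : L = (R : Subgroup G) ⊔ V := by
    show ((R : Subgroup G).map (QuotientGroup.mk' V)).comap (QuotientGroup.mk' V) = _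
    rw [Subgroup.comap_map_eq, QuotientGroup.ker_mk']
  have hRL : (R : Subgroup G) ≤ L := by rw [hL]; exact le_sup_left
  have hF : Subgroup.normalizer ((R : Subgroup G) : Set G) ⊔ L = ⊤ := Sylow.normalizer_sup_eq_top' R hRL
  have hF2 : Subgroup.normalizer ((R : Subgroup G) : Set G) ⊔ V = ⊤ := by
    rw [eq_top_iff, ← hF, hL]
    refine sup_le le_sup_left (sup_le ?_ le_sup_right)
    exact le_trans Subgroup.le_normalizer le_sup_left
  -- `R` is normal
  have hRn : (R : Subgroup G).Normal := by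
    by_contra hnn
    have hne : Subgroup.normalizer ((R : Subgroup G) : Set G) ≠ ⊤ := fun h =>
      hnn (Subgroup.normalizer_eq_top_iff.1 h)
    obtain ⟨M, hM, hle⟩ := (eq_top_or_exists_le_coatom _).resolve_left hne
    have hMV : M ⊔ V = ⊤ := top_le_iff.1 (hF2 ▸ sup_le_sup_right hle V)
    have hVM : ¬ V ≤ M := fun h => hM.1 (by rw [← hMV, sup_eq_left.2 h])
    have hInf : (V ⊓ M).Normal := by
      refine ⟨fun x hx g => ?_⟩
      have hg : g ∈ ((M ⊔ V : Subgroup G) : Set G) := by rw [hMV]; trivial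
      rw [Subgroup.mul_normal] at hg
      obtain ⟨m, hm, v, hv, rfl⟩ := Set.mem_mul.1 hg
      have h1 : (m * v) * x * (m * v)⁻¹ = m * x * m⁻¹ := by
        have := hVab v hv x hx.1
        calc (m * v) * x * (m * v)⁻¹ = m * (v * x) * v⁻¹ * m⁻¹ := by group
          _ = m * (x * v) * v⁻¹ * m⁻¹ := by rw [this]
          _ = m * x * m⁻¹ := by group
      rw [h1]
      exact ⟨hVn.conj_mem x hx.1 m, M.mul_mem (M.mul_mem hm hx.2) (M.inv_mem hm)⟩
    rcases hmin (V ⊓ M) hInf inf_le_left with h | h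
    · apply hc
      refine ⟨M, Subgroup.isComplement'_of_disjoint_and_mul_eq_univ (disjoint_iff.2 h) ?_⟩
      rw [← Subgroup.normal_mul V M, sup_comm, hMV]
      rfl
    · exact hVM (inf_eq_left.1 h)
  -- commutators land in `V`
  have hRcomm : ⁅(R : Subgroup G), (R : Subgroup G)⁆ ≤ V := by
    rw [Subgroup.commutator_le]
    intro a ha b hb
    have h1 := hRbarC ⟨(a : G ⧸ V), Subgroup.mem_map_of_mem _ ha⟩
      ⟨(b : G ⧸ V), Subgroup.mem_map_of_mem _ hb⟩
    have h2 : ((a : G ⧸ V)) * (b : G ⧸ V) = (b : G ⧸ V) * (a : G ⧸ V) := congrArg Subtype.val h1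
    rw [← QuotientGroup.eq_one_iff]
    rw [commutatorElement_def]
    simp only [QuotientGroup.mk_mul, QuotientGroup.mk_inv]
    rw [h2]
    group
  -- `R` is not abelian
  have hRnab : ⁅(R : Subgroup G), (R : Subgroup G)⁆ ≠ ⊥ := by
    intro h0
    obtain ⟨χ, hχ⟩ := hr
    haveI : IsMulCommutative (R : Subgroup G) := by
      refine ⟨⟨fun a b => ?_⟩⟩
      have h2 := Subgroup.commutator_mem_commutator a.2 b.2
      rw [h0, Subgroup.mem_bot] at h2
      exact Subtype.ext (commutatorElement_eq_one_iff_mul_comm.1 h2)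
    obtain ⟨e, he, hd⟩ := exists_degree_dvd_index_of_abelian (R : Subgroup G) χ.2
    have h3 : charDegree (χ : G → ℂ) = e :=
      Values.IsCharacter.charDegree_eq (Values.IsIrrCharacter.isCharacter χ.2) he
    rw [h3] at hχ
    exact R.not_dvd_index (hχ.trans hd)
  have hRV : ⁅(R : Subgroup G), (R : Subgroup G)⁆ = V :=
    (hmin _ inferInstance hRcomm).resolve_left hRnab
  have hVR : V ≤ (R : Subgroup G) := by
    rw [← hRV]
    exact Subgroup.commutator_le_left _ _
  have hea := Cfsg.Agent.Lib.PGroup.QuadReduce.minNormal_ea (p := r) R.isPGroup' (⟨hVn, hV, hmin⟩ :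
    Cfsg.Agent.Lib.Solvable.MinimalNormal.IsMinNormal V) hVR
  obtain ⟨S, hS⟩ := Subgroup.exists_right_complement'_of_coprime R.card_coprime_index
  refine ⟨R, S, hRn, R.isPGroup', hS, ?_, hVR, ?_, hRV, hea.2.2⟩
  · have h5 : (R : Subgroup G).index = Nat.card S := hS.symm.index_eq_card
    rw [← h5]
    exact R.card_coprime_index
  · intro v hv x hx
    exact ((Subgroup.mem_centralizer_iff.1 (hea.1 hv)) x hx).symm

end Cfsg.Agent.Lib.Palfy
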