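import Mathlib
import Cfsg.Agent.Lib.Palfy.Defs
import Cfsg.Agent.Lib.Palfy.HomRep

/-!
# The situation of step M1 of the proof of Pálfy's theorem
-/

set_option autoImplicit false

namespace Cfsg.Agent.Lib.Palfy

open Cfsg
open scoped commutatorElement

universe u

/-- `R ⋊ S`, with `R` an `r`-group of class two with `R' = V` elementary abelian, and `S` an
irreducible `r'`-group on `V`. -/
structure M1Data {G : Type u} [Group G] (R S V : Subgroup G) (r : ℕ) : Prop where
  hc : R.IsComplement' S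
  hr : IsPGroup r R
  hcop : Nat.Coprime (Nat.card R) (Nat.card S)
  hVR : V ≤ R
  hcen : ∀ v ∈ V, ∀ x ∈ R, v * x = x * v
  hcomm : ⁅R, R⁆ = V
  hV : V ≠ ⊥
  hexp : ∀ v ∈ V, v ^ r = 1
  hmin : ∀ U : Subgroup G, U ≤ V → (∀ m ∈ S, ∀ u ∈ U, m * u * m⁻¹ ∈ U) → U = ⊥ ∨ U = V

/-- The kernel of the `Q`-trace on `Hom(R, F_r)`. -/
noncomputable def W2 {G : Type u} [Group G] [Finite G] (R S : Subgroup G) [R.Normal] (r : ℕ)
    [Fact r.Prime] (Q : Subgroup S) : Submodule (ZMod r) (HomW R r) :=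
  letI : Fintype Q := Fintype.ofFinite Q
  LinearMap.ker (∑ z : Q, homRep R S r (z : S))

theorem mem_W2 {G : Type u} [Group G] [Finite G] {R S : Subgroup G} [R.Normal] {r : ℕ}
    [Fact r.Prime] {Q : Subgroup S} [i : Fintype Q] {w : HomW R r} :
    w ∈ W2 R S r Q ↔ ∑ z : Q, homRep R S r (z : S) w = 0 := by
  obtain rfl : i = Fintype.ofFinite Q := Subsingleton.elim _ _
  simp only [W2, LinearMap.mem_ker, LinearMap.sum_apply]

end Cfsg.Agent.Lib.Palfy
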